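import Mathlib
import Cfsg.Agent.Lib.Zsigmondy

/-!
# Arithmetic for S1148
-/

set_option autoImplicit false

namespace Cfsg.Agent.OddUThree.Arith

theorem pow_dvd_lemma {p m r : ℕ} (hp : 3 ≤ p) (hr : r < 2 * m) (h : p ^ m + 1 ∣ p ^ r - 1) : r = 0 := by
  by_contra h0
  have hpr : 1 < p ^ r := Nat.one_lt_pow h0 (by omega)
  by_cases hle : r ≤ m
  · have h1 : p ^ r ≤ p ^ m := Nat.pow_le_pow_right (by omega) hle
    have := Nat.le_of_dvd (by omega) h
    omega
  · obtain ⟨s, rfl⟩ : ∃ s, r = m + s := ⟨r - m, by omega⟩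
    have h2 : p ^ (m + s) - 1 + (p ^ s + 1) = p ^ s * (p ^ m + 1) := by
      have : 1 ≤ p ^ (m + s) := Nat.one_le_pow _ _ (by omega)
      rw [pow_add] at *
      have : p ^ m * p ^ s - 1 + (p ^ s + 1) = p ^ m * p ^ s + p ^ s := by omega
      rw [this]; ring
    have h3 : p ^ m + 1 ∣ p ^ s + 1 := by
      have : p ^ m + 1 ∣ p ^ (m + s) - 1 + (p ^ s + 1) := h2 ▸ Dvd.intro_left _ rfl
      exact (Nat.dvd_add_right h).mp this
    have h4 := Nat.le_of_dvd (by omega) h3
    have h5 : p ^ s < p ^ m := Nat.pow_lt_pow_right (by omega) (by omega)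
    omega

/-- `|C_U(j)| = q` -/
theorem order_eq {p n m s D C k d : ℕ} (hp : p.Prime) (hp2 : p ≠ 2) (hn : 1 ≤ n) (hm : m ≤ 3 * n)
    (h : s * ((p ^ m + 1) * p ^ m) + p ^ m = p ^ (3 * n)) (hs0 : s ≠ 0) (hsk : s ≤ k)
    (hs : s = D ∨ s = 2 * D) (hDC : D * C = k) (hk : d * k = p ^ (2 * n) - 1) (hd : 1 ≤ d) :
    m = n ∧ s = p ^ n - 1 := by
  have hp3 : 3 ≤ p := by have := hp.two_le; omega
  have hpn : 3 ≤ p ^ n := hp3.trans (Nat.le_self_pow (by omega) p)
  have h2n : p ^ (2 * n) = p ^ n * p ^ n := by rw [two_mul, pow_add]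
  have h3n : p ^ (3 * n) = p ^ n * p ^ n * p ^ n := by
    rw [show 3 * n = n + n + n by ring, pow_add, pow_add]
  have hkle : k ≤ p ^ (2 * n) - 1 := by
    rw [← hk]; exact Nat.le_mul_of_pos_left _ hd
  have hmn : m = n := by
    rcases Nat.eq_zero_or_pos m with rfl | hm1
    · -- m = 0
      exfalso
      simp only [pow_zero] at h
      rw [h2n] at hkle
      rw [h3n] at h
      have : 3 * (p ^ n * p ^ n) ≤ p ^ n * p ^ n * p ^ n := by nlinarith
      omega
    · -- s (p^m+1) = p^(3n-m) - 1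
      obtain ⟨r, hr⟩ : ∃ r, 3 * n = m + r := ⟨3 * n - m, by omega⟩
      have h1 : s * (p ^ m + 1) + 1 = p ^ r := by
        rw [hr, pow_add] at h
        have hpm : 0 < p ^ m := by positivity
        apply Nat.eq_of_mul_eq_mul_left hpm
        rw [← h]; ring
      have h1' : s * (p ^ m + 1) = p ^ r - 1 := by omega
      have hdvd : p ^ m + 1 ∣ p ^ r - 1 := ⟨s, by rw [← h1']; ring⟩
      rcases lt_trichotomy m n with hlt | heq | hgt
      · exfalso
        have hr3 : 3 ≤ r := by omega
        obtain ⟨l, hl, hl1, -, -⟩ := Cfsg.Agent.Lib.Zsigmondy.exists_primitive (a := p) (n := r) hp.two_le (by omega)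
          (by omega) (by omega)
        have hlr : l ∣ p ^ r - 1 := (hl1 r).mpr dvd_rfl
        rw [← h1'] at hlr
        rcases (Nat.Prime.dvd_mul hl).mp hlr with h3 | h3
        · have h4 : l ∣ 2 * (p ^ (2 * n) - 1) := by
            rw [← hk, ← hDC]
            rcases hs with hs | hs
            · rw [hs] at h3
              exact (h3.trans ⟨d * C, by ring⟩ : l ∣ d * (D * C)).mul_left 2
            · rw [hs] at h3
              exact h3.trans ⟨d * C, by ring⟩
          rcases (Nat.Prime.dvd_mul hl).mp h4 with h5 | h5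
          · have hl2 : l = 2 := (Nat.prime_dvd_prime_iff_eq hl Nat.prime_two).mp h5
            have : r ∣ 1 := (hl1 1).mp (by
              rw [hl2, pow_one]
              have := hp.odd_of_ne_two hp2
              obtain ⟨c, hc⟩ := this
              exact ⟨c, by omega⟩)
            have := Nat.le_of_dvd one_pos this
            omega
          · have := Nat.le_of_dvd (by omega) ((hl1 _).mp h5)
            omega
        · have h4 : l ∣ p ^ (2 * m) - 1 := by
            have : p ^ (2 * m) - 1 = (p ^ m + 1) * (p ^ m - 1) := by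
              rw [mul_comm 2 m, pow_mul, ← Nat.sq_sub_sq, one_pow]
            rw [this]; exact h3.mul_right _
          have := Nat.le_of_dvd (by omega) ((hl1 _).mp h4)
          omega
      · exact heq
      · exfalso
        have hr2 : r < 2 * m := by omega
        have hr0 := pow_dvd_lemma hp3 hr2 hdvd
        rw [hr0, pow_zero] at h1
        have : s * (p ^ m + 1) = 0 := by omega
        rcases Nat.mul_eq_zero.mp this with h5 | h5 <;> omega
  refine ⟨hmn, ?_⟩
  subst hmn
  rw [h3n] at h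
  have h4 : (s + 1) * (p ^ m * (p ^ m + 1)) = p ^ m * (p ^ m * (p ^ m + 1)) := by
    nlinarith
  have h5 : s + 1 = p ^ m := Nat.eq_of_mul_eq_mul_right (by positivity) h4
  omega

/-- The possible values of `|C_U(Y)|` for `Y ≠ 1`. -/
theorem fix_cases {p n i b sY D : ℕ} (hp : p.Prime) (hp2 : p ≠ 2) (hn : 1 ≤ n) (hb : b ≤ n) (hi : i < 3 * n)
    (h : sY * ((p ^ b + 1) * p ^ b) + p ^ b = p ^ i) (hs : sY = 0 ∨ sY = p ^ n - 1 ∨ (sY = D ∧ 2 * D = p ^ n - 1)) :
    sY = 0 ∨ (b = 0 ∧ 2 * D = p ^ n - 1) := by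
  have hp3 : 3 ≤ p := by have := hp.two_le; omega
  have hpn : 3 ≤ p ^ n := hp3.trans (Nat.le_self_pow (by omega) p)
  rcases hs with h0 | h1 | ⟨h2, h3⟩
  · exact Or.inl h0
  · exfalso
    have hbi : b ≤ i := by
      by_contra hlt
      have : p ^ i < p ^ b := Nat.pow_lt_pow_right (by omega) (by omega)
      omega
    obtain ⟨r, rfl⟩ : ∃ r, i = b + r := ⟨i - b, by omega⟩
    have e1 : sY * (p ^ b + 1) + 1 = p ^ r := by
      rw [pow_add] at h
      apply Nat.eq_of_mul_eq_mul_left (show 0 < p ^ b by positivity)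
      rw [← h]; ring
    rcases Nat.lt_or_ge b n with hlt | hge
    · -- p ∤ ...
      obtain ⟨c, hc⟩ : ∃ c, n = b + (c + 1) := ⟨n - b - 1, by omega⟩
      have e2 : p ^ r + p ^ b = p ^ b * (p ^ (c + 1) * (p ^ b + 1)) := by
        have e3 : p ^ n = p ^ b * p ^ (c + 1) := by rw [hc, pow_add]
        have e4 : sY + 1 = p ^ n := by omega
        calc p ^ r + p ^ b = (sY + 1) * (p ^ b + 1) := by rw [← e1]; ring
          _ = _ := by rw [e4, e3]; ring
      -- p^b divides p^r
      have h5 : p ^ b ∣ p ^ r := by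
        have : p ^ b ∣ p ^ r + p ^ b := e2 ▸ Dvd.intro _ rfl
        exact (Nat.dvd_add_left dvd_rfl).mp this
      have h6 : b ≤ r := (Nat.pow_dvd_pow_iff_le_right (by omega)).mp h5
      obtain ⟨t, rfl⟩ : ∃ t, r = b + t := ⟨r - b, by omega⟩
      have e5 : p ^ t + 1 = p ^ (c + 1) * (p ^ b + 1) := by
        apply Nat.eq_of_mul_eq_mul_left (show 0 < p ^ b by positivity)
        rw [← e2, pow_add]; ring
      rcases Nat.eq_zero_or_pos t with rfl | ht
      · simp only [pow_zero] at e5
        have : p ^ (c + 1) ≥ 3 := hp3.trans (Nat.le_self_pow (by omega) p)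
        nlinarith [Nat.one_le_pow b p (by omega)]
      · have h7 : p ∣ p ^ t + 1 := by rw [e5]; exact (dvd_pow_self p (by omega)).mul_right _
        have h8 : p ∣ 1 := (Nat.dvd_add_right (dvd_pow_self p (by omega))).mp h7
        have := Nat.le_of_dvd one_pos h8
        omega
    · have hbn : b = n := le_antisymm hb hge
      subst hbn
      have e4 : sY + 1 = p ^ b := by omega
      have e5 : p ^ r = p ^ (2 * b) := by
        rw [← e1, two_mul, pow_add, ← e4]
        ring
      have : r = 2 * b := Nat.pow_right_injective hp.two_le e5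
      omega
  · right
    refine ⟨?_, h3⟩
    by_contra hb0
    have hbi : b ≤ i := by
      by_contra hlt
      have : p ^ i < p ^ b := Nat.pow_lt_pow_right (by omega) (by omega)
      omega
    obtain ⟨r, rfl⟩ : ∃ r, i = b + r := ⟨i - b, by omega⟩
    have e1 : sY * (p ^ b + 1) + 1 = p ^ r := by
      rw [pow_add] at h
      apply Nat.eq_of_mul_eq_mul_left (show 0 < p ^ b by positivity)
      rw [← h]; ring
    have e2 : 2 * p ^ r + p ^ b = p ^ n * (p ^ b + 1) + 1 := by
      have e4 : 2 * sY + 1 = p ^ n := by omega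
      rw [← e1, ← e4]; ring
    rcases Nat.eq_zero_or_pos r with rfl | hr
    · simp only [pow_zero] at e1
      have : sY * (p ^ b + 1) = 0 := by omega
      rcases Nat.mul_eq_zero.mp this with h5 | h5 <;> omega
    · have h7 : p ∣ 2 * p ^ r + p ^ b :=
        dvd_add ((dvd_pow_self p (by omega)).mul_left _) (dvd_pow_self p hb0)
      rw [e2] at h7
      have h8 : p ∣ 1 := (Nat.dvd_add_right ((dvd_pow_self p (by omega)).mul_right _)).mp h7
      have := Nat.le_of_dvd one_pos h8
      omega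

end Cfsg.Agent.OddUThree.Arith
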