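import Cfsg.Agent.OddUThree.Count
import Cfsg.Agent.Solvable.Glauberman

/-!
# Split 2-transitive groups of odd unitary type: basic facts (S1148)

`Setup G Ω U p n`: `G` is 2-transitive on `Ω`, `U a` is a `G`-equivariant family of subgroups, `U a` fixes `a` and is regular
on the other points, `|U a| = p ^ (3 n)` with `p` an odd prime, the two-point stabilisers are cyclic of order
`(p ^ (2 n) - 1) / gcd (3, p ^ n + 1)`.
-/

set_option autoImplicit false
set_option linter.unusedSectionVars false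

namespace Cfsg.Agent.OddUThree.Basic

open MulAction

/-- The set-up of S1148 as a permutation group. -/
structure Setup (G Ω : Type*) [Group G] [MulAction G Ω] (U : Ω → Subgroup G) (p n : ℕ) : Prop where
  prime : p.Prime
  ne_two : p ≠ 2
  pos : 1 ≤ n
  faithful : ∀ g : G, (∀ x : Ω, g • x = x) → g = 1
  conj : ∀ (g : G) (a : Ω), ∀ u ∈ U a, g * u * g⁻¹ ∈ U (g • a)
  fix : ∀ (a : Ω), ∀ u ∈ U a, u • a = a
  reg : ∀ a b c : Ω, b ≠ a → c ≠ a → ∃! u : G, u ∈ U a ∧ u • b = c
  two : ∀ a b a' b' : Ω, a ≠ b → a' ≠ b' → ∃ g : G, g • a = a' ∧ g • b = b'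
  cardU : ∀ a, Nat.card (U a) = p ^ (3 * n)
  cyc : ∀ a b : Ω, a ≠ b → IsCyclic ↥(stabilizer G a ⊓ stabilizer G b)
  cardK : ∀ a b : Ω, a ≠ b → Nat.gcd 3 (p ^ n + 1) * Nat.card ↥(stabilizer G a ⊓ stabilizer G b) = p ^ (2 * n) - 1

/-- The two-point stabiliser. -/
abbrev K (G : Type*) {Ω : Type*} [Group G] [MulAction G Ω] (a b : Ω) : Subgroup G := stabilizer G a ⊓ stabilizer G b

variable {G Ω : Type*} [Group G] [MulAction G Ω] {U : Ω → Subgroup G} {p n : ℕ}

theorem mem_K {a b : Ω} {g : G} : g ∈ K G a b ↔ g • a = a ∧ g • b = b := by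
  simp [K, Subgroup.mem_inf, mem_stabilizer_iff]

theorem K_comm (a b : Ω) : K G a b = K G b a := inf_comm _ _

theorem conj_mem_K {a b : Ω} {k : G} (g : G) (hk : k ∈ K G a b) : g * k * g⁻¹ ∈ K G (g • a) (g • b) := by
  rw [mem_K] at *
  constructor
  · rw [mul_smul, mul_smul, inv_smul_smul, hk.1]
  · rw [mul_smul, mul_smul, inv_smul_smul, hk.2]

namespace Setup

variable (S : Setup G Ω U p n)
include S

theorem comm_K {a b : Ω} (hab : a ≠ b) {x y : G} (hx : x ∈ K G a b) (hy : y ∈ K G a b) : x * y = y * x := by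
  have := S.cyc a b hab
  have h := (IsCyclic.commGroup (α := ↥(K G a b))).mul_comm ⟨x, hx⟩ ⟨y, hy⟩
  exact congrArg Subtype.val h

theorem odd_q : Odd (p ^ n) := (S.prime.odd_of_ne_two S.ne_two).pow

theorem three_le : 3 ≤ p ^ n := by
  have h3 : 3 ≤ p := by
    have := S.prime.two_le
    have := S.ne_two
    omega
  calc 3 ≤ p := h3
    _ = p ^ 1 := (pow_one p).symm
    _ ≤ p ^ n := Nat.pow_le_pow_right (by omega) S.pos

theorem gcd_cases : Nat.gcd 3 (p ^ n + 1) = 1 ∨ Nat.gcd 3 (p ^ n + 1) = 3 :=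
  (Nat.dvd_prime Nat.prime_three).mp (Nat.gcd_dvd_left 3 _)

theorem gcd_dvd : Nat.gcd 3 (p ^ n + 1) ∣ p ^ n + 1 := Nat.gcd_dvd_right 3 _

theorem eight_dvd : 8 ∣ p ^ (2 * n) - 1 := by
  have h := S.odd_q
  obtain ⟨k, hk⟩ := h
  have : p ^ (2 * n) = (2 * k + 1) ^ 2 := by rw [mul_comm, pow_mul, hk]
  rw [this]
  have h2 : 2 ∣ k * (k + 1) := (Nat.even_mul_succ_self k).two_dvd
  obtain ⟨r, hr⟩ := h2
  refine ⟨r, ?_⟩
  have : (2 * k + 1) ^ 2 = 4 * (k * (k + 1)) + 1 := by ring
  omega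

/-- The two-point stabilisers have order divisible by 8. -/
theorem eight_dvd_card {a b : Ω} (hab : a ≠ b) : 8 ∣ Nat.card (K G a b) := by
  have h := S.cardK a b hab
  have h8 := S.eight_dvd
  rw [← h] at h8
  rcases S.gcd_cases with h1 | h1 <;> rw [h1] at h8
  · simpa using h8
  · exact (Nat.Coprime.dvd_mul_left (by norm_num)).mp h8

variable [Finite G]

theorem card_K_pos {a b : Ω} : 0 < Nat.card (K G a b) := Nat.card_pos

theorem exists_unique_inv {a b : Ω} (hab : a ≠ b) : ∃ j : G, (j ∈ K G a b ∧ j ≠ 1 ∧ j * j = 1) ∧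
    ∀ g : G, g ∈ K G a b → g ≠ 1 → g * g = 1 → g = j := by
  have hc := S.cyc a b hab
  have h2 : 2 ∣ Nat.card (K G a b) := (show 2 ∣ 8 by norm_num).trans (S.eight_dvd_card hab)
  have : Fact (Nat.Prime 2) := ⟨Nat.prime_two⟩
  obtain ⟨x, hx⟩ := exists_prime_orderOf_dvd_card' (G := ↥(K G a b)) 2 h2
  have hx' : orderOf (x : G) = 2 := by rw [← hx]; exact Subgroup.orderOf_coe x
  have hxx : (x : G) * x = 1 := by rw [← pow_two, ← hx', pow_orderOf_eq_one]
  refine ⟨x, ⟨x.2, ?_, hxx⟩, ?_⟩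
  · intro h; rw [h, orderOf_one] at hx'; omega
  · intro g hg hg1 hg2
    have hog : orderOf (⟨g, hg⟩ : K G a b) = 2 := by
      apply orderOf_eq_prime
      · ext; simp [pow_two, hg2]
      · intro h; exact hg1 (congrArg Subtype.val h)
    have h1 : Subgroup.zpowers (⟨g, hg⟩ : K G a b) = Subgroup.zpowers x := by
      apply Count.eq_of_card
      rw [Nat.card_zpowers, Nat.card_zpowers, hog, hx]
    have h2 : (⟨g, hg⟩ : K G a b) ∈ Subgroup.zpowers x := h1 ▸ Subgroup.mem_zpowers _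
    obtain ⟨i, hi⟩ := Subgroup.mem_zpowers_iff.mp h2
    rcases Int.even_or_odd' i with ⟨j, hj | hj⟩
    · exfalso
      apply hg1
      have : (⟨g, hg⟩ : K G a b) = 1 := by
        rw [← hi, hj, zpow_mul, show (2 : ℤ) = ((2 : ℕ) : ℤ) from rfl, zpow_natCast, ← hx, pow_orderOf_eq_one, one_zpow]
      exact congrArg Subtype.val this
    · have : (⟨g, hg⟩ : K G a b) = x := by
        rw [← hi, hj, zpow_add_one, zpow_mul, show (2 : ℤ) = ((2 : ℕ) : ℤ) from rfl, zpow_natCast, ← hx,
          pow_orderOf_eq_one, one_zpow, one_mul]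
      exact congrArg Subtype.val this

end Setup

open scoped Classical in
/-- The unique involution of the two-point stabiliser. -/
noncomputable def jj (G : Type*) {Ω : Type*} [Group G] [MulAction G Ω] (a b : Ω) : G :=
  if h : ∃ j : G, (j ∈ K G a b ∧ j ≠ 1 ∧ j * j = 1) ∧ ∀ g : G, g ∈ K G a b → g ≠ 1 → g * g = 1 → g = j then h.choose
  else 1

namespace Setup

variable (S : Setup G Ω U p n) [Finite G]
include S

theorem jj_spec {a b : Ω} (hab : a ≠ b) : (jj G a b ∈ K G a b ∧ jj G a b ≠ 1 ∧ jj G a b * jj G a b = 1) ∧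
    ∀ g : G, g ∈ K G a b → g ≠ 1 → g * g = 1 → g = jj G a b := by
  have h := S.exists_unique_inv hab
  rw [jj, dif_pos h]
  exact h.choose_spec

theorem jj_mem {a b : Ω} (hab : a ≠ b) : jj G a b ∈ K G a b := (S.jj_spec hab).1.1
theorem jj_ne_one {a b : Ω} (hab : a ≠ b) : jj G a b ≠ 1 := (S.jj_spec hab).1.2.1
theorem jj_mul_self {a b : Ω} (hab : a ≠ b) : jj G a b * jj G a b = 1 := (S.jj_spec hab).1.2.2
theorem eq_jj {a b : Ω} (hab : a ≠ b) {g : G} (hg : g ∈ K G a b) (h1 : g ≠ 1) (h2 : g * g = 1) : g = jj G a b :=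
  (S.jj_spec hab).2 g hg h1 h2
theorem jj_inv {a b : Ω} (hab : a ≠ b) : (jj G a b)⁻¹ = jj G a b :=
  inv_eq_of_mul_eq_one_left (S.jj_mul_self hab)
theorem jj_smul_left {a b : Ω} (hab : a ≠ b) : jj G a b • a = a := (mem_K.mp (S.jj_mem hab)).1
theorem jj_smul_right {a b : Ω} (hab : a ≠ b) : jj G a b • b = b := (mem_K.mp (S.jj_mem hab)).2

theorem conj_jj {a b : Ω} (hab : a ≠ b) (g : G) : g * jj G a b * g⁻¹ = jj G (g • a) (g • b) := by
  have hab' : g • a ≠ g • b := fun h => hab (smul_left_cancel g h)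
  refine S.eq_jj hab' (conj_mem_K g (S.jj_mem hab)) ?_ ?_
  · intro h
    apply S.jj_ne_one hab
    have := congrArg (fun x => g⁻¹ * x * g) h
    simpa [mul_assoc] using this
  · have : g * jj G a b * g⁻¹ * (g * jj G a b * g⁻¹) = g * (jj G a b * jj G a b) * g⁻¹ := by group
    rw [this, S.jj_mul_self hab]; group

theorem jj_comm {a b : Ω} (hab : a ≠ b) : jj G a b = jj G b a := by
  refine S.eq_jj hab.symm ?_ (S.jj_ne_one hab) (S.jj_mul_self hab)
  rw [K_comm]; exact S.jj_mem hab

/-- An involution fixing two points `x ≠ y` is `jj x y`. -/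
theorem eq_jj' {x y : Ω} (hxy : x ≠ y) {g : G} (h1 : g ≠ 1) (h2 : g * g = 1) (hx : g • x = x) (hy : g • y = y) :
    g = jj G x y := S.eq_jj hxy (mem_K.mpr ⟨hx, hy⟩) h1 h2

end Setup

/-- The set of all involutions fixing two points. -/
def JJ (G Ω : Type*) [Group G] [MulAction G Ω] : Set G := {u | ∃ a b : Ω, a ≠ b ∧ u = jj G a b}

namespace Setup

variable (S : Setup G Ω U p n) [Finite G]
include S

theorem mem_JJ_iff {u : G} : u ∈ JJ G Ω ↔ u ≠ 1 ∧ u * u = 1 ∧ ∃ a b : Ω, a ≠ b ∧ u • a = a ∧ u • b = b := by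
  constructor
  · rintro ⟨a, b, hab, rfl⟩
    exact ⟨S.jj_ne_one hab, S.jj_mul_self hab, a, b, hab, S.jj_smul_left hab, S.jj_smul_right hab⟩
  · rintro ⟨h1, h2, a, b, hab, ha, hb⟩
    exact ⟨a, b, hab, S.eq_jj' hab h1 h2 ha hb⟩

theorem JJ_conj {u : G} (hu : u ∈ JJ G Ω) (g : G) : g * u * g⁻¹ ∈ JJ G Ω := by
  obtain ⟨a, b, hab, rfl⟩ := hu
  exact ⟨g • a, g • b, fun h => hab (smul_left_cancel g h), S.conj_jj hab g⟩

/-! ### Fixed points -/

theorem eq_of_U {a b : Ω} (hab : b ≠ a) {u v : G} (hu : u ∈ U a) (hv : v ∈ U a) (h : u • b = v • b) : u = v := by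
  have hc : v • b ≠ a := by
    intro h'
    apply hab
    have := congrArg (fun x => v⁻¹ • x) h'
    simp only [inv_smul_smul] at this
    rw [this, inv_smul_eq_iff, S.fix a v hv]
  obtain ⟨w, -, hw⟩ := S.reg a b (v • b) hab hc
  rw [hw u ⟨hu, h⟩, hw v ⟨hv, rfl⟩]

/-- A subgroup `Y` of `K a b`: the points fixed by `Y` are `a` and the points `u • b`, `u ∈ C_{U a}(Y)`. -/
theorem fixed_iff {a b : Ω} (hab : a ≠ b) {u y : G} (hu : u ∈ U a) (hy : y ∈ K G a b) :
    y • u • b = u • b ↔ y * u = u * y := by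
  rw [mem_K] at hy
  constructor
  · intro h
    have h1 : (y * u * y⁻¹) • b = u • b := by rw [mul_smul, mul_smul, inv_smul_eq_iff.mpr hy.2.symm, h]
    have h2 : y * u * y⁻¹ ∈ U a := by
      have := S.conj y a u hu
      rwa [hy.1] at this
    have := S.eq_of_U hab.symm h2 hu h1
    rw [mul_inv_eq_iff_eq_mul] at this
    exact this
  · intro h
    rw [← mul_smul, h, mul_smul, hy.2]

/-- Number of fixed points of a subgroup of `K a b`. -/
theorem ncard_fixed {a b : Ω} (hab : a ≠ b) (Y : Subgroup G) (hY : Y ≤ K G a b) :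
    {x : Ω | ∀ y ∈ Y, y • x = x}.ncard = Nat.card ↥(U a ⊓ Subgroup.centralizer (Y : Set G)) + 1 := by
  have hfix : ∀ y ∈ Y, y • a = a := fun y hy => (mem_K.mp (hY hy)).1
  have e : {x : Ω | ∀ y ∈ Y, y • x = x} =
      insert a ((fun u : G => u • b) '' (U a ⊓ Subgroup.centralizer (Y : Set G) : Subgroup G)) := by
    ext x
    simp only [Set.mem_ofPred_eq, Set.mem_insert_iff, Set.mem_image, SetLike.mem_coe, Subgroup.mem_inf]
    constructor
    · intro h
      by_cases hx : x = a
      · exact Or.inl hx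
      · right
        obtain ⟨u, ⟨hu, hub⟩, -⟩ := S.reg a b x hab.symm hx
        refine ⟨u, ⟨hu, ?_⟩, hub⟩
        rw [Subgroup.mem_centralizer_iff]
        intro y hy
        have := h y hy
        rw [← hub] at this
        exact (S.fixed_iff hab hu (hY hy)).mp this
    · rintro (rfl | ⟨u, ⟨hu, huc⟩, rfl⟩)
      · exact hfix
      · intro y hy
        exact (S.fixed_iff hab hu (hY hy)).mpr (Subgroup.mem_centralizer_iff.mp huc y hy)
  rw [e, Set.ncard_insert_of_notMem]
  · rw [Set.InjOn.ncard_image, ← Nat.card_coe_set_eq]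
    · rfl
    · intro u hu v hv h
      exact S.eq_of_U hab.symm hu.1 hv.1 h
  · rintro ⟨u, hu, h⟩
    apply hab.symm
    have h1 : u • b = u • a := by
      have := S.fix a u hu.1
      simp only at h
      rw [h, this]
    exact smul_left_cancel u h1

theorem card_points {a b : Ω} (hab : a ≠ b) : Nat.card Ω = p ^ (3 * n) + 1 := by
  have := S.ncard_fixed hab ⊥ bot_le
  have h1 : {x : Ω | ∀ y ∈ (⊥ : Subgroup G), y • x = x} = Set.univ := by
    ext x; simp [Subgroup.mem_bot]
  rw [h1, Set.ncard_univ] at this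
  rw [this]
  have h2 : U a ⊓ Subgroup.centralizer ((⊥ : Subgroup G) : Set G) = U a := by
    rw [inf_eq_left]
    intro u _
    rw [Subgroup.mem_centralizer_iff]
    simp
  rw [h2, S.cardU]

theorem finite_points {a b : Ω} (hab : a ≠ b) : Finite Ω := by
  have := S.card_points hab
  exact Nat.finite_of_card_ne_zero (by omega)

/-- `N_G(Y)` is 2-transitive on the fixed points of `Y ≤ K a b`. -/
theorem exists_normalizer {a b : Ω} (hab : a ≠ b) (Y : Subgroup G) (hY : Y ≤ K G a b) {x y : Ω} (hxy : x ≠ y)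
    (hx : ∀ k ∈ Y, k • x = x) (hy : ∀ k ∈ Y, k • y = y) :
    ∃ g ∈ Subgroup.normalizer (Y : Set G), g • a = x ∧ g • b = y := by
  obtain ⟨g, hga, hgb⟩ := S.two a b x y hab hxy
  refine ⟨g, ?_, hga, hgb⟩
  have hYle : Y ≤ K G x y := fun k hk => mem_K.mpr ⟨hx k hk, hy k hk⟩
  have hgY : Y.map (MulAut.conj g).toMonoidHom ≤ K G x y := by
    rintro _ ⟨k, hk, rfl⟩
    have := conj_mem_K g (hY hk)
    rw [hga, hgb] at this
    exact this
  have hc := S.cyc x y hxy
  have heq : Y.map (MulAut.conj g).toMonoidHom = Y := by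
    exact Count.eq_of_card' (K G x y) hgY hYle
      (Nat.card_congr (Y.equivMapOfInjective _ (MulAut.conj g).injective).symm.toEquiv)
  rw [Subgroup.mem_normalizer_iff]
  intro h
  constructor
  · intro hh
    rw [← heq]
    exact ⟨h, hh, rfl⟩
  · intro hh
    rw [← heq] at hh
    obtain ⟨k, hk, hk'⟩ := hh
    simp only [MulEquiv.toMonoidHom_eq_coe, MonoidHom.coe_coe, MulAut.conj_apply] at hk'
    have : k = h := by
      have := congrArg (fun z => g⁻¹ * z * g) hk'
      simpa [mul_assoc] using this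
    exact this ▸ hk

/-- A subgroup of a point stabiliser of order prime to `p` fixes another point. -/
theorem exists_fixed_of_coprime {z w : Ω} (hzw : w ≠ z) (A : Subgroup G) (hA : ∀ g ∈ A, g • z = z)
    (hc : (Nat.card A).Coprime p) : ∃ x : Ω, x ≠ z ∧ ∀ g ∈ A, g • x = x := by
  have hn : A ≤ Subgroup.normalizer (U z : Set G) := by
    intro g hg
    rw [Subgroup.mem_normalizer_iff]
    have hgz := hA g hg
    intro h
    constructor
    · intro hh
      have := S.conj g z h hh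
      rwa [hgz] at this
    · intro hh
      have := S.conj g⁻¹ z _ hh
      rw [inv_smul_eq_iff.mpr hgz.symm] at this
      simpa [mul_assoc] using this
  have : Fact p.Prime := ⟨S.prime⟩
  have hpg : IsPGroup p (U z) := IsPGroup.of_card (S.cardU z)
  have hnil := hpg.isNilpotent
  obtain ⟨k, hk, hk'⟩ := Cfsg.Agent.Solvable.Glauberman.exists_smul_fixed A (U z) hn
    (by rw [S.cardU z]; exact Nat.Coprime.pow_right _ hc) (Or.inr inferInstance) w (by
      intro g hg
      have hne : g • w ≠ z := by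
        intro h
        apply hzw
        have := hA g hg
        rw [← this] at h
        exact smul_left_cancel g h
      obtain ⟨u, ⟨hu, hu'⟩, -⟩ := S.reg z w (g • w) hzw hne
      exact ⟨u, hu, hu'.symm⟩)
  refine ⟨k • w, ?_, hk'⟩
  intro h
  apply hzw
  have := S.fix z k hk
  rw [← this] at h
  exact smul_left_cancel k h

/-- two commuting different involutions have no common fixed point -/
theorem no_common_fixed {u v : G} (hu : u * u = 1) (hu1 : u ≠ 1) (hv : v * v = 1) (hv1 : v ≠ 1) (huv : u ≠ v)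
    (hc : u * v = v * u) {z w : Ω} (hzw : w ≠ z) (hz : u • z = z) (hvz : v • z = z) : False := by
  have hui : u⁻¹ = u := inv_eq_of_mul_eq_one_left hu
  have hvi : v⁻¹ = v := inv_eq_of_mul_eq_one_left hv
  let A : Subgroup G :=
    { carrier := {1, u, v, u * v}
      one_mem' := by simp
      mul_mem' := by
        have e1 : u * (u * v) = v := by rw [← mul_assoc, hu, one_mul]
        have e2 : v * (u * v) = u := by rw [hc, ← mul_assoc, hv, one_mul]
        have e3 : (u * v) * u = v := by rw [hc, mul_assoc, hu, mul_one]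
        have e4 : (u * v) * v = u := by rw [mul_assoc, hv, mul_one]
        have e5 : (u * v) * (u * v) = 1 := by rw [mul_assoc, e2, hu]
        rintro a b (rfl | rfl | rfl | rfl) (rfl | rfl | rfl | rfl) <;>
          simp only [one_mul, mul_one, hu, hv, e1, e2, e3, e4, e5, ← hc, Set.mem_insert_iff, Set.mem_singleton_iff,
            true_or, or_true]
      inv_mem' := by
        rintro a (rfl | rfl | rfl | rfl)
        · simp
        · rw [hui]; simp
        · rw [hvi]; simp
        · rw [mul_inv_rev, hui, hvi, ← hc]; simp }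
  have hA4 : Nat.card A = 4 := by
    have h1 : u * v ≠ 1 := fun h => huv (by rw [← hvi]; exact eq_inv_of_mul_eq_one_left h)
    have h2 : u * v ≠ u := fun h => hv1 (mul_eq_left.mp h)
    have h3 : u * v ≠ v := fun h => hu1 (mul_eq_right.mp h)
    have : Nat.card A = ({1, u, v, u * v} : Set G).ncard := rfl
    rw [this, Set.ncard_insert_of_notMem, Set.ncard_insert_of_notMem, Set.ncard_pair h3.symm]
    · simp only [Set.mem_insert_iff, Set.mem_singleton_iff, not_or]
      exact ⟨huv, h2.symm⟩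
    · simp only [Set.mem_insert_iff, Set.mem_singleton_iff, not_or]
      exact ⟨hu1.symm, hv1.symm, h1.symm⟩
  obtain ⟨x, hx, hx'⟩ := S.exists_fixed_of_coprime hzw A (by
    rintro g (rfl | rfl | rfl | rfl)
    · exact one_smul _ _
    · exact hz
    · exact hvz
    · rw [mul_smul, hvz, hz]) (by
    rw [hA4]
    have h2 : Nat.Coprime 2 p := (Nat.coprime_primes Nat.prime_two S.prime).mpr (Ne.symm S.ne_two)
    exact Nat.Coprime.pow_left 2 h2)
  have hux : u • x = x := hx' u (by simp [A])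
  have hvx : v • x = x := hx' v (by simp [A])
  exact huv ((S.eq_jj' hx hu1 hu hux hz).trans (S.eq_jj' hx hv1 hv hvx hvz).symm)

end Setup

/-- The subgroup `C_{U a}(jj a b)`. -/
def E (U : Ω → Subgroup G) (a b : Ω) : Subgroup G := U a ⊓ Subgroup.centralizer {jj G a b}

theorem mem_E {U : Ω → Subgroup G} {a b : Ω} {x : G} : x ∈ E U a b ↔ x ∈ U a ∧ jj G a b * x = x * jj G a b := by
  rw [E, Subgroup.mem_inf, Subgroup.mem_centralizer_iff]
  simp

/-- The class of involutions `jj x y`, `x ≠ y` two fixed points of `Y`. -/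
def JY {G : Type*} (Ω : Type*) [Group G] [MulAction G Ω] (Y : Subgroup G) : Set G :=
  {u | ∃ x y : Ω, x ≠ y ∧ (∀ k ∈ Y, k • x = x) ∧ (∀ k ∈ Y, k • y = y) ∧ u = jj G x y}

theorem JY_bot : JY Ω (⊥ : Subgroup G) = JJ G Ω := by
  ext u
  constructor
  · rintro ⟨x, y, hxy, -, -, h⟩
    exact ⟨x, y, hxy, h⟩
  · rintro ⟨x, y, hxy, h⟩
    exact ⟨x, y, hxy, by simp [Subgroup.mem_bot], by simp [Subgroup.mem_bot], h⟩

theorem JY_sub (Y : Subgroup G) : JY Ω Y ⊆ JJ G Ω := by
  rintro u ⟨x, y, hxy, -, -, h⟩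
  exact ⟨x, y, hxy, h⟩

namespace Setup

variable (S : Setup G Ω U p n) [Finite G]
include S

/-- The counting formula for a subgroup `Y` of `K a b`. -/
theorem count {a b : Ω} (hab : a ≠ b) (Y : Subgroup G) (hY : Y ≤ K G a b) :
    {u ∈ JY Ω Y | u • a = b}.ncard * ((Nat.card ↥(E U a b ⊓ Subgroup.centralizer (Y : Set G)) + 1) *
      Nat.card ↥(E U a b ⊓ Subgroup.centralizer (Y : Set G))) +
      Nat.card ↥(E U a b ⊓ Subgroup.centralizer (Y : Set G)) =
      Nat.card ↥(U a ⊓ Subgroup.centralizer (Y : Set G)) := by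
  have := S.finite_points hab
  set e := Nat.card ↥(E U a b ⊓ Subgroup.centralizer (Y : Set G)) with he
  set X : Set Ω := {x : Ω | ∀ y ∈ Y, y • x = x} with hX
  have hYa : ∀ y ∈ Y, y • a = a := fun y hy => (mem_K.mp (hY hy)).1
  have hYb : ∀ y ∈ Y, y • b = b := fun y hy => (mem_K.mp (hY hy)).2
  have hinv : ∀ g ∈ Subgroup.normalizer (Y : Set G), ∀ x ∈ X, g • x ∈ X := by
    intro g hg x hx y hy
    have h1 : g⁻¹ * y * g ∈ Y := by
      have := (Subgroup.mem_normalizer_iff.mp (Subgroup.inv_mem _ hg) y).mp hy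
      simpa using this
    have h2 := hx _ h1
    rw [mul_smul, mul_smul, inv_smul_eq_iff] at h2
    exact h2
  have h := Count.count_swap (Subgroup.normalizer (Y : Set G)) X (Set.toFinite X) hinv ?_ (JY Ω Y) ?_ ?_ (e + 1) ?_ ?_
    (show a ∈ X from hYa) (show b ∈ X from hYb) hab
  · have h2 := S.ncard_fixed hab Y hY
    rw [← hX] at h2
    rw [h2] at h
    simp only [Nat.add_sub_cancel] at h
    omega
  · intro x hx y hy x' hx' y' hy' hxy hxy'
    obtain ⟨g, hg, hga, hgb⟩ := S.exists_normalizer hab Y hY hxy hx hy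
    obtain ⟨g', hg', hga', hgb'⟩ := S.exists_normalizer hab Y hY hxy' hx' hy'
    refine ⟨g' * g⁻¹, Subgroup.mul_mem _ hg' (Subgroup.inv_mem _ hg), ?_, ?_⟩
    · rw [← hga, mul_smul, inv_smul_smul, hga']
    · rw [← hgb, mul_smul, inv_smul_smul, hgb']
  · rintro u ⟨x, y, hxy, hx, hy, rfl⟩
    have hle : Subgroup.centralizer (Y : Set G) ≤ Subgroup.normalizer (Y : Set G) := by
      intro g hg
      rw [Subgroup.mem_normalizer_iff]
      intro h
      constructor
      · intro hh
        rw [← Subgroup.mem_centralizer_iff.mp hg h hh]; simpa using hh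
      · intro hh
        have := Subgroup.mem_centralizer_iff.mp hg _ hh
        have e2 : h = g⁻¹ * (g * h * g⁻¹) * g := by group
        rw [e2, mul_assoc, this]; simpa using hh
    apply hle
    rw [Subgroup.mem_centralizer_iff]
    intro k hk
    exact S.comm_K hxy (mem_K.mpr ⟨hx k hk, hy k hk⟩) (S.jj_mem hxy)
  · rintro g hg u ⟨x, y, hxy, hx, hy, rfl⟩
    exact ⟨g • x, g • y, fun h => hxy (smul_left_cancel g h), hinv g hg x hx, hinv g hg y hy, S.conj_jj hxy g⟩
  · rintro u ⟨x, y, hxy, hx, hy, rfl⟩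
    -- transport to (a, b)
    obtain ⟨g, hg, hga, hgb⟩ := S.exists_normalizer hab Y hY hxy hx hy
    have e1 : {z ∈ X | jj G x y • z = z} = (fun z => g • z) '' {z ∈ X | jj G a b • z = z} := by
      have hconj := S.conj_jj hab g
      rw [hga, hgb] at hconj
      ext z
      constructor
      · rintro ⟨hz, hz'⟩
        refine ⟨g⁻¹ • z, ⟨hinv _ (Subgroup.inv_mem _ hg) z hz, ?_⟩, by simp⟩
        show jj G a b • g⁻¹ • z = g⁻¹ • z
        rw [← hconj] at hz'
        rw [mul_smul, mul_smul] at hz'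
        rw [eq_inv_smul_iff]; exact hz'
      · rintro ⟨w, ⟨hw, hw'⟩, rfl⟩
        refine ⟨hinv g hg w hw, ?_⟩
        show jj G x y • g • w = g • w
        rw [← hconj, mul_smul, mul_smul, inv_smul_smul, hw']
    rw [e1, Set.ncard_image_of_injective _ (MulAction.injective g)]
    have e2 : {z ∈ X | jj G a b • z = z} = {z : Ω | ∀ k ∈ Y ⊔ Subgroup.zpowers (jj G a b), k • z = z} := by
      ext z
      constructor
      · rintro ⟨hz, hz'⟩
        have hle : Y ⊔ Subgroup.zpowers (jj G a b) ≤ stabilizer G z := by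
          rw [sup_le_iff]
          refine ⟨fun k hk => mem_stabilizer_iff.mpr (hz k hk), ?_⟩
          rw [Subgroup.zpowers_le]
          exact mem_stabilizer_iff.mpr hz'
        intro k hk
        exact mem_stabilizer_iff.mp (hle hk)
      · intro hz
        exact ⟨fun k hk => hz k (Subgroup.mem_sup_left hk), hz _ (Subgroup.mem_sup_right (Subgroup.mem_zpowers _))⟩
    rw [e2, S.ncard_fixed hab _ (sup_le hY (by rw [Subgroup.zpowers_le]; exact S.jj_mem hab)), he]
    congr 3
    ext u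
    rw [Subgroup.mem_inf, Subgroup.mem_inf, mem_E, Subgroup.mem_centralizer_iff, Subgroup.mem_centralizer_iff]
    constructor
    · rintro ⟨h1, h2⟩
      exact ⟨⟨h1, h2 _ (Subgroup.mem_sup_right (Subgroup.mem_zpowers _))⟩, fun k hk => h2 k (Subgroup.mem_sup_left hk)⟩
    · rintro ⟨⟨h1, h2⟩, h3⟩
      refine ⟨h1, ?_⟩
      have hle : Y ⊔ Subgroup.zpowers (jj G a b) ≤ Subgroup.centralizer {u} := by
        rw [sup_le_iff, Subgroup.zpowers_le]
        constructor
        · intro k hk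
          rw [Subgroup.mem_centralizer_iff]
          rintro _ rfl
          exact (h3 k hk).symm
        · rw [Subgroup.mem_centralizer_iff]
          rintro _ rfl
          exact h2.symm
      intro k hk
      exact (Subgroup.mem_centralizer_iff.mp (hle hk) u rfl).symm
  · intro x hx y hy hxy
    refine ⟨jj G x y, ⟨⟨x, y, hxy, hx, hy, rfl⟩, S.jj_smul_left hxy, S.jj_smul_right hxy⟩, ?_⟩
    rintro v ⟨⟨x', y', hxy', -, -, rfl⟩, h1, h2⟩
    exact S.eq_jj' hxy (S.jj_ne_one hxy') (S.jj_mul_self hxy') h1 h2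

end Setup

end Cfsg.Agent.OddUThree.Basic
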