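import Mathlib

/-!
# Counting lemmas for 2-transitive actions (S1148)

* `count_swap`: `N` is 2-transitive on the finite set `X`, `J` is an invariant set of involutions of `N`, each element
  of `J` fixes exactly `f` points of `X`, and any two points of `X` are fixed by exactly one element of `J`. Then the
  number `s` of elements of `J` which map `x` to `y` satisfies `s * (f * (f - 1)) + f = |X|`.
* `ncard_minus`: in a finite cyclic group with an automorphism `τ` of order at most 2, a set of elements inverted by `τ`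
  which is a union of cosets of `D = {k τ(k)⁻¹}` has `0`, `|D|` or `2|D|` elements.
-/

set_option autoImplicit false

namespace Cfsg.Agent.OddUThree.Count

open scoped Classical in
theorem count_swap {G Ω : Type*} [Group G] [Finite G] [MulAction G Ω] (N : Subgroup G) (X : Set Ω)
    (hX : X.Finite) (hinv : ∀ g ∈ N, ∀ x ∈ X, g • x ∈ X)
    (h2 : ∀ x ∈ X, ∀ y ∈ X, ∀ x' ∈ X, ∀ y' ∈ X, x ≠ y → x' ≠ y' → ∃ g ∈ N, g • x = x' ∧ g • y = y')
    (J : Set G) (hJN : ∀ u ∈ J, u ∈ N) (hJc : ∀ g ∈ N, ∀ u ∈ J, g * u * g⁻¹ ∈ J)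
    (f : ℕ) (hf : ∀ u ∈ J, {x ∈ X | u • x = x}.ncard = f)
    (huniq : ∀ x ∈ X, ∀ y ∈ X, x ≠ y → ∃! u, u ∈ J ∧ u • x = x ∧ u • y = y)
    {x y : Ω} (hx : x ∈ X) (hy : y ∈ X) (hxy : x ≠ y) :
    {u ∈ J | u • x = y}.ncard * (f * (f - 1)) + f = X.ncard := by
  have : Fintype G := Fintype.ofFinite G
  set XF : Finset Ω := hX.toFinset with hXF
  set JF : Finset G := Finset.univ.filter (· ∈ J) with hJF
  set P : Finset (Ω × Ω) := XF.offDiag with hP
  have hm : X.ncard = XF.card := by rw [hXF, Set.ncard_eq_toFinset_card X hX]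
  have hmemX : ∀ z, z ∈ XF ↔ z ∈ X := fun z => by rw [hXF, Set.Finite.mem_toFinset]
  have hmemJ : ∀ u, u ∈ JF ↔ u ∈ J := fun u => by rw [hJF]; simp
  have hfF : ∀ u ∈ JF, (XF.filter fun z => u • z = z).card = f := by
    intro u hu
    rw [← hf u ((hmemJ u).mp hu), ← Set.ncard_coe_finset]
    congr 1; ext z; simp [hmemX]
  -- first count
  have c1 : ∑ u ∈ JF, (P.filter fun r => u • r.1 = r.1 ∧ u • r.2 = r.2).card = JF.card * (f * (f - 1)) := by
    rw [← smul_eq_mul, ← Finset.sum_const]
    apply Finset.sum_congr rfl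
    intro u hu
    have e : (P.filter fun r => u • r.1 = r.1 ∧ u • r.2 = r.2) = (XF.filter fun z => u • z = z).offDiag := by
      ext r; simp only [hP, Finset.mem_filter, Finset.mem_offDiag]; tauto
    rw [e, Finset.offDiag_card, hfF u hu, Nat.mul_sub, mul_one]
  have c1' : ∑ r ∈ P, (JF.filter fun u => u • r.1 = r.1 ∧ u • r.2 = r.2).card = P.card := by
    rw [Finset.card_eq_sum_ones]
    apply Finset.sum_congr rfl
    intro r hr
    rw [hP, Finset.mem_offDiag] at hr
    obtain ⟨u, hu, hu'⟩ := huniq r.1 ((hmemX _).mp hr.1) r.2 ((hmemX _).mp hr.2.1) hr.2.2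
    rw [Finset.card_eq_one]
    refine ⟨u, ?_⟩
    ext v
    rw [Finset.mem_filter, hmemJ, Finset.mem_singleton]
    exact ⟨fun hv => hu' v hv, fun hv => hv ▸ hu⟩
  have e1 : JF.card * (f * (f - 1)) = P.card := by
    rw [← c1, ← c1']
    simp only [Finset.card_filter]
    exact Finset.sum_comm
  -- second count
  have c2 : ∑ u ∈ JF, (P.filter fun r => u • r.1 = r.2).card = JF.card * (XF.card - f) := by
    rw [← smul_eq_mul, ← Finset.sum_const]
    apply Finset.sum_congr rfl
    intro u hu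
    have e : (P.filter fun r => u • r.1 = r.2) = (XF.filter fun z => ¬ (u • z = z)).image fun z => (z, u • z) := by
      ext ⟨r1, r2⟩
      simp only [hP, Finset.mem_filter, Finset.mem_offDiag, Finset.mem_image, Prod.mk.injEq]
      constructor
      · rintro ⟨⟨h1, h2', h3⟩, h4⟩
        exact ⟨r1, ⟨h1, fun h => h3 (h.symm.trans h4)⟩, rfl, h4⟩
      · rintro ⟨z, ⟨h1, h2'⟩, rfl, rfl⟩
        exact ⟨⟨h1, (hmemX _).mpr (hinv u (hJN u ((hmemJ u).mp hu)) z ((hmemX _).mp h1)), fun h => h2' h.symm⟩, rfl⟩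
    rw [e, Finset.card_image_of_injective _ (fun a b h => (Prod.mk.inj h).1)]
    have := Finset.card_filter_add_card_filter_not (s := XF) (fun z => u • z = z)
    rw [hfF u hu] at this
    omega
  set s : ℕ := {u ∈ J | u • x = y}.ncard with hs
  have c2' : ∑ r ∈ P, (JF.filter fun u => u • r.1 = r.2).card = P.card * s := by
    rw [← smul_eq_mul, ← Finset.sum_const]
    apply Finset.sum_congr rfl
    intro r hr
    rw [hP, Finset.mem_offDiag] at hr
    obtain ⟨g, hg, hg1, hg2⟩ := h2 r.1 ((hmemX _).mp hr.1) r.2 ((hmemX _).mp hr.2.1) x hx y hy hr.2.2 hxy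
    rw [hs]
    have e : {u ∈ J | u • x = y} = (fun u => g * u * g⁻¹) '' {u ∈ J | u • r.1 = r.2} := by
      ext v
      constructor
      · rintro ⟨hv, hv'⟩
        refine ⟨g⁻¹ * v * g, ⟨?_, ?_⟩, by group⟩
        · have := hJc g⁻¹ (N.inv_mem hg) v hv
          simpa using this
        · show (g⁻¹ * v * g) • r.1 = r.2
          rw [mul_smul, mul_smul, hg1, hv', ← hg2, inv_smul_smul]
      · rintro ⟨w, ⟨hw, hw'⟩, rfl⟩
        refine ⟨hJc g hg w hw, ?_⟩
        show (g * w * g⁻¹) • x = y
        rw [mul_smul, mul_smul, ← hg1, inv_smul_smul, hw', hg2]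
    rw [e, Set.ncard_image_of_injective _ (fun a b h => by simpa using h), ← Set.ncard_coe_finset]
    congr 1; ext v; simp [hmemJ]
  have e2 : JF.card * (XF.card - f) = P.card * s := by
    rw [← c2, ← c2']
    simp only [Finset.card_filter]
    exact Finset.sum_comm
  have hJ0 : 0 < JF.card := by
    obtain ⟨u, ⟨hu, -, -⟩, -⟩ := huniq x hx y hy hxy
    exact Finset.card_pos.mpr ⟨u, (hmemJ u).mpr hu⟩
  have hfle : f ≤ XF.card := by
    obtain ⟨u, ⟨hu, -, -⟩, -⟩ := huniq x hx y hy hxy
    rw [← hfF u ((hmemJ u).mpr hu)]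
    exact Finset.card_filter_le _ _
  rw [← e1, mul_assoc] at e2
  have := Nat.eq_of_mul_eq_mul_left hJ0 e2
  rw [hm]
  rw [mul_comm s]
  omega

/-- In a finite cyclic group with an endomorphism `τ` of order at most 2, a set of elements inverted by `τ`
which is closed under multiplication by the elements `k τ(k)⁻¹` has `0`, `|D|` or `2 |D|` elements. -/
theorem ncard_minus {C : Type*} [CommGroup C] [Finite C] [IsCyclic C] (τ : C →* C)
    (T : Set C) (hT : ∀ k ∈ T, τ k = k⁻¹) (hD : ∀ k ∈ T, ∀ d : C, k * (d * (τ d)⁻¹) ∈ T) :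
    T.ncard = 0 ∨ T.ncard = (Set.range fun k : C => k * (τ k)⁻¹).ncard ∨
      T.ncard = 2 * (Set.range fun k : C => k * (τ k)⁻¹).ncard := by
  let δ : C →* C :=
    { toFun := fun k => k * (τ k)⁻¹
      map_one' := by simp
      map_mul' := fun a b => by simp only [map_mul, mul_inv]; exact mul_mul_mul_comm _ _ _ _ }
  set D : Subgroup C := δ.range with hDdef
  have hDr : (Set.range fun k : C => k * (τ k)⁻¹) = (D : Set C) := by
    rw [hDdef, MonoidHom.coe_range]; rfl
  let M : Subgroup C :=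
    { carrier := {k | τ k = k⁻¹}
      one_mem' := by simp
      mul_mem' := fun {a b} ha hb => by
        simp only [Set.mem_ofPred_eq] at *; rw [map_mul, ha, hb, mul_inv]
      inv_mem' := fun {a} ha => by
        simp only [Set.mem_ofPred_eq] at *; rw [map_inv, ha] }
  have hMmem : ∀ k, k ∈ M ↔ τ k = k⁻¹ := fun k => Iff.rfl
  obtain ⟨m, hm⟩ := (Subgroup.isCyclic_iff_exists_zpowers_eq_top M).mp inferInstance
  have hmM : m ∈ M := by rw [← hm]; exact Subgroup.mem_zpowers m
  have hsq : ∀ k ∈ M, k * k ∈ D := by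
    intro k hk
    refine ⟨k, ?_⟩
    show k * (τ k)⁻¹ = k * k
    rw [(hMmem k).mp hk, inv_inv]
  have hcases : ∀ k ∈ M, k ∈ D ∨ m⁻¹ * k ∈ D := by
    intro k hk
    rw [← hm] at hk
    obtain ⟨i, rfl⟩ := Subgroup.mem_zpowers_iff.mp hk
    have hmm := hsq m hmM
    rcases Int.even_or_odd' i with ⟨j, hj | hj⟩
    · left
      rw [hj, zpow_mul, show (2 : ℤ) = ((2 : ℕ) : ℤ) from rfl, zpow_natCast, pow_two]
      exact D.zpow_mem hmm j
    · right
      rw [hj, zpow_add_one, zpow_mul, show (2 : ℤ) = ((2 : ℕ) : ℤ) from rfl, zpow_natCast, pow_two,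
        mul_comm, mul_assoc, mul_inv_cancel, mul_one]
      exact D.zpow_mem hmm j
  have hTD : ∀ k ∈ T, ∀ d ∈ D, k * d ∈ T := by
    rintro k hk _ ⟨d, rfl⟩
    exact hD k hk d
  have hTM : T ⊆ M := fun k hk => hT k hk
  rw [hDr]
  -- the part of T in D
  have key : ∀ z : C, (T ∩ {k | z⁻¹ * k ∈ D}).ncard = 0 ∨ (T ∩ {k | z⁻¹ * k ∈ D}).ncard = (D : Set C).ncard := by
    intro z
    by_cases he : (T ∩ {k | z⁻¹ * k ∈ D}).Nonempty
    · right
      obtain ⟨k0, hk0, hk0'⟩ := he
      have : T ∩ {k | z⁻¹ * k ∈ D} = (fun d => k0 * d) '' (D : Set C) := by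
        ext k
        constructor
        · rintro ⟨hk, hk'⟩
          refine ⟨k0⁻¹ * k, ?_, by simp⟩
          have := D.mul_mem (D.inv_mem hk0') hk'
          simp only [SetLike.mem_coe]
          have e : (z⁻¹ * k0)⁻¹ * (z⁻¹ * k) = k0⁻¹ * k := by group
          rwa [e] at this
        · rintro ⟨d, hd, rfl⟩
          refine ⟨hTD k0 hk0 d hd, ?_⟩
          show z⁻¹ * (k0 * d) ∈ D
          rw [← mul_assoc]
          exact D.mul_mem hk0' hd
      rw [this, Set.ncard_image_of_injective _ (mul_right_injective k0)]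
    · left
      rw [Set.not_nonempty_iff_eq_empty.mp he, Set.ncard_empty]
  by_cases hmD : m ∈ D
  · have : T = T ∩ {k | (1 : C)⁻¹ * k ∈ D} := by
      ext k
      simp only [inv_one, one_mul, Set.mem_inter_iff, Set.mem_ofPred_eq, iff_self_and]
      intro hk
      rcases hcases k (hTM hk) with h | h
      · exact h
      · have := D.mul_mem hmD h
        rwa [mul_inv_cancel_left] at this
    rw [this]
    rcases key 1 with h | h
    · exact Or.inl h
    · exact Or.inr (Or.inl h)
  · have hun : T = (T ∩ {k | (1 : C)⁻¹ * k ∈ D}) ∪ (T ∩ {k | m⁻¹ * k ∈ D}) := by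
      ext k
      simp only [inv_one, one_mul, Set.mem_union, Set.mem_inter_iff, Set.mem_ofPred_eq]
      constructor
      · intro hk
        rcases hcases k (hTM hk) with h | h
        · exact Or.inl ⟨hk, h⟩
        · exact Or.inr ⟨hk, h⟩
      · rintro (h | h) <;> exact h.1
    have hdis : Disjoint (T ∩ {k | (1 : C)⁻¹ * k ∈ D}) (T ∩ {k | m⁻¹ * k ∈ D}) := by
      rw [Set.disjoint_left]
      rintro k ⟨-, h1⟩ ⟨-, h2⟩
      simp only [inv_one, one_mul, Set.mem_ofPred_eq] at h1 h2
      apply hmD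
      have := D.mul_mem h1 (D.inv_mem h2)
      have e : k * (m⁻¹ * k)⁻¹ = m := by rw [mul_inv, inv_inv, mul_comm m, mul_inv_cancel_left]
      rwa [e] at this
    have := Set.ncard_union_eq hdis (Set.toFinite _) (Set.toFinite _)
    rw [← hun] at this
    rcases key 1 with h | h <;> rcases key m with h' | h' <;> rw [h, h'] at this <;> omega

/-- In a finite cyclic group a subgroup is determined by its order; more generally inclusion is divisibility. -/
theorem le_of_card_dvd {C : Type*} [Group C] [Finite C] [IsCyclic C] (H L : Subgroup C)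
    (h : Nat.card H ∣ Nat.card L) : H ≤ L := by
  classical
  have : Fintype C := Fintype.ofFinite C
  intro x hx
  have hL0 : 0 < Nat.card L := Nat.card_pos
  have h1 : (Finset.univ.filter fun y : C => y ^ Nat.card L = 1).card ≤ Nat.card L :=
    IsCyclic.card_pow_eq_one_le hL0
  have h2 : (Finset.univ.filter fun y : C => y ∈ L) ⊆ (Finset.univ.filter fun y : C => y ^ Nat.card L = 1) := by
    intro y hy
    simp only [Finset.mem_filter, Finset.mem_univ, true_and] at *
    exact congrArg Subtype.val (pow_card_eq_one' (x := (⟨y, hy⟩ : L)))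
  have h3 : (Finset.univ.filter fun y : C => y ∈ L).card = Nat.card L := by
    rw [Nat.card_eq_fintype_card, Fintype.card_subtype]
  have h4 := Finset.eq_of_subset_of_card_le h2 (h3 ▸ h1)
  have h5 : x ∈ (Finset.univ.filter fun y : C => y ^ Nat.card L = 1) := by
    simp only [Finset.mem_filter, Finset.mem_univ, true_and]
    obtain ⟨c, hc⟩ := h
    have h6 : x ^ Nat.card H = 1 := congrArg Subtype.val (pow_card_eq_one' (x := (⟨x, hx⟩ : H)))
    rw [hc, pow_mul, h6, one_pow]
  rw [← h4] at h5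
  simpa using h5

theorem eq_of_card {C : Type*} [Group C] [Finite C] [IsCyclic C] (H L : Subgroup C)
    (h : Nat.card H = Nat.card L) : H = L :=
  le_antisymm (le_of_card_dvd H L (dvd_of_eq h)) (le_of_card_dvd L H (dvd_of_eq h.symm))

/-- The same for subgroups of a cyclic subgroup. -/
theorem le_of_card_dvd' {G : Type*} [Group G] [Finite G] (A : Subgroup G) [IsCyclic A] {H L : Subgroup G} (hH : H ≤ A)
    (hL : L ≤ A) (h : Nat.card H ∣ Nat.card L) : H ≤ L := by
  have := le_of_card_dvd (H.subgroupOf A) (L.subgroupOf A) (by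
    rw [Nat.card_congr (Subgroup.subgroupOfEquivOfLe hH).toEquiv, Nat.card_congr (Subgroup.subgroupOfEquivOfLe hL).toEquiv]
    exact h)
  intro x hx
  exact Subgroup.mem_subgroupOf.mp (this (Subgroup.mem_subgroupOf.mpr (show ((⟨x, hH hx⟩ : A) : G) ∈ H from hx)))

theorem eq_of_card' {G : Type*} [Group G] [Finite G] (A : Subgroup G) [IsCyclic A] {H L : Subgroup G} (hH : H ≤ A)
    (hL : L ≤ A) (h : Nat.card H = Nat.card L) : H = L :=
  le_antisymm (le_of_card_dvd' A hH hL (dvd_of_eq h)) (le_of_card_dvd' A hL hH (dvd_of_eq h.symm))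

end Cfsg.Agent.OddUThree.Count
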