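import Cfsg.Agent.OddUThree.Basic
import Cfsg.Agent.OddUThree.Arith

/-!
# Local structure in S1148: `|C_U(j)| = q`, centralisers of subgroups of `K`
-/

set_option autoImplicit false
set_option linter.unusedSectionVars false

namespace Cfsg.Agent.OddUThree.Basic

open MulAction

variable {G Ω : Type*} [Group G] [MulAction G Ω] {U : Ω → Subgroup G} {p n : ℕ}

/-- `C_K(t)` -/
def CK (a b : Ω) (t : G) : Subgroup G := K G a b ⊓ Subgroup.centralizer {t}

theorem mem_CK {a b : Ω} {t x : G} : x ∈ CK a b t ↔ x ∈ K G a b ∧ t * x = x * t := by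
  rw [CK, Subgroup.mem_inf, Subgroup.mem_centralizer_iff]; simp

/-- `[K, t]` -/
def DK (a b : Ω) (t : G) : Set G := {x | ∃ k ∈ K G a b, x = k * (t * k * t)⁻¹}

namespace Setup

variable (S : Setup G Ω U p n) [Finite G]
include S

theorem swap_back {a b : Ω} {t : G} (ht : t ∈ JJ G Ω) (hta : t • a = b) : t • b = a := by
  have h := (S.mem_JJ_iff.mp ht).2.1
  rw [← hta, ← mul_smul, h, one_smul]

theorem conj_t_mem {a b : Ω} {t k : G} (ht : t ∈ JJ G Ω) (hta : t • a = b) (hk : k ∈ K G a b) :
    t * k * t ∈ K G a b := by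
  have htt := (S.mem_JJ_iff.mp ht).2.1
  have htb := S.swap_back ht hta
  have := conj_mem_K t hk
  rw [hta, htb, K_comm, inv_eq_of_mul_eq_one_left htt] at this
  exact this

/-- The cases for the number of involutions in `K t`. -/
theorem swap_cases {a b : Ω} (hab : a ≠ b) {t : G} (ht : t ∈ JJ G Ω) (hta : t • a = b) (Y : Subgroup G)
    (hY : Y ≤ K G a b) :
    ({u ∈ JY Ω Y | u • a = b}.ncard = 0 ∨ {u ∈ JY Ω Y | u • a = b}.ncard = (DK a b t).ncard ∨
      {u ∈ JY Ω Y | u • a = b}.ncard = 2 * (DK a b t).ncard) ∧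
    (DK a b t).ncard * Nat.card (CK a b t) = Nat.card (K G a b) := by
  classical
  have htt := (S.mem_JJ_iff.mp ht).2.1
  have hti : t⁻¹ = t := inv_eq_of_mul_eq_one_left htt
  have htb := S.swap_back ht hta
  have hcyc := S.cyc a b hab
  let _ : CommGroup ↥(K G a b) := IsCyclic.commGroup
  let τ : ↥(K G a b) →* ↥(K G a b) :=
    { toFun := fun k => ⟨t * k * t, S.conj_t_mem ht hta k.2⟩
      map_one' := by ext; simp [htt]
      map_mul' := fun x y => by
        ext
        show t * ((x : G) * y) * t = (t * x * t) * (t * y * t)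
        rw [show (t * x * t) * (t * y * t) = t * x * (t * t) * y * t by group, htt]; group }
  have hτ : ∀ k, ((τ k : ↥(K G a b)) : G) = t * k * t := fun k => rfl
  let δ : ↥(K G a b) →* ↥(K G a b) :=
    { toFun := fun k => k * (τ k)⁻¹
      map_one' := by simp
      map_mul' := fun x y => by simp only [map_mul, mul_inv]; exact mul_mul_mul_comm _ _ _ _ }
  have hDK : DK a b t = Subtype.val '' (Set.range fun k : ↥(K G a b) => k * (τ k)⁻¹) := by
    ext x
    constructor
    · rintro ⟨k, hk, rfl⟩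
      exact ⟨_, ⟨⟨k, hk⟩, rfl⟩, rfl⟩
    · rintro ⟨_, ⟨k, rfl⟩, rfl⟩
      exact ⟨k, k.2, rfl⟩
  have hDKc : (DK a b t).ncard = (Set.range fun k : ↥(K G a b) => k * (τ k)⁻¹).ncard := by
    rw [hDK, Set.ncard_image_of_injective _ Subtype.val_injective]
  constructor
  · rw [hDKc]
    set T : Set ↥(K G a b) := {k | (k : G) * t ∈ JY Ω Y} with hT
    have hTc : {u ∈ JY Ω Y | u • a = b}.ncard = T.ncard := by
      have : {u ∈ JY Ω Y | u • a = b} = (fun k : ↥(K G a b) => (k : G) * t) '' T := by
        ext u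
        constructor
        · rintro ⟨hu, hua⟩
          have huJ := JY_sub Y hu
          have hub := S.swap_back huJ hua
          refine ⟨⟨u * t, mem_K.mpr ⟨?_, ?_⟩⟩, ?_, ?_⟩
          · rw [mul_smul, hta, hub]
          · rw [mul_smul, htb, hua]
          · show u * t * t ∈ JY Ω Y
            rwa [mul_assoc, htt, mul_one]
          · show u * t * t = u
            rw [mul_assoc, htt, mul_one]
        · rintro ⟨k, hk, rfl⟩
          refine ⟨hk, ?_⟩
          show ((k : G) * t) • a = b
          rw [mul_smul, hta]; exact (mem_K.mp k.2).2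
      rw [this, Set.ncard_image_of_injective _ (fun x y h => Subtype.ext (mul_right_cancel h))]
    rw [hTc]
    refine Count.ncard_minus τ T ?_ ?_
    · intro k hk
      have hk2 := (S.mem_JJ_iff.mp (JY_sub Y hk)).2.1
      rw [eq_inv_iff_mul_eq_one]
      ext
      show t * (k : G) * t * k = 1
      have : (k : G) * t * (k * t) = 1 := hk2
      have e : t * (k : G) * t * k = (k : G)⁻¹ * ((k : G) * t * (k * t)) * t⁻¹ * t * k := by group
      rw [e, this]; group
    · intro k hk d
      show ((k * (d * (τ d)⁻¹) : ↥(K G a b)) : G) * t ∈ JY Ω Y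
      obtain ⟨x, y, hxy, hx, hy, hu⟩ := hk
      have hYfix : ∀ z : Ω, (∀ k ∈ Y, k • z = z) → ∀ k ∈ Y, k • (d : G) • z = (d : G) • z := by
        intro z hz k hk
        have := S.comm_K hab (hY hk) d.2
        rw [← mul_smul, this, mul_smul, hz k hk]
      refine ⟨(d : G) • x, (d : G) • y, fun h => hxy (smul_left_cancel _ h), hYfix x hx, hYfix y hy, ?_⟩
      rw [← S.conj_jj hxy, ← hu]
      have h1 : ((k * (d * (τ d)⁻¹) : ↥(K G a b)) : G) = (d : G) * k * (t * d * t)⁻¹ := by
        have : k * (d * (τ d)⁻¹) = d * k * (τ d)⁻¹ := by rw [← mul_assoc, mul_comm k d]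
        rw [this]; rfl
      rw [h1, mul_inv_rev, mul_inv_rev, hti]
      simp only [mul_assoc]
      rw [htt, mul_one]
  · have h1 : (DK a b t).ncard = Nat.card δ.range := by
      rw [hDKc, ← Nat.card_coe_set_eq]; rfl
    have h2 : Nat.card (CK a b t) = Nat.card δ.ker := by
      apply Nat.card_congr
      refine ⟨fun x => ⟨⟨x.1, (mem_CK.mp x.2).1⟩, ?_⟩, fun x => ⟨x.1.1, ?_⟩, fun x => rfl, fun x => rfl⟩
      · rw [MonoidHom.mem_ker]
        show (⟨x.1, _⟩ : ↥(K G a b)) * (τ ⟨x.1, _⟩)⁻¹ = 1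
        rw [mul_inv_eq_one]
        ext
        show x.1 = t * x.1 * t
        rw [(mem_CK.mp x.2).2, mul_assoc, htt, mul_one]
      · rw [mem_CK]
        refine ⟨x.1.2, ?_⟩
        have := x.2
        rw [MonoidHom.mem_ker] at this
        have h3 : x.1 = τ x.1 := mul_inv_eq_one.mp this
        have h4 : (x.1.1 : G) = t * x.1.1 * t := congrArg Subtype.val h3
        conv_rhs => rw [h4]
        rw [mul_assoc, htt, mul_one]
    rw [h1, h2]
    have := Subgroup.card_mul_index δ.ker
    rw [Subgroup.index_ker] at this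
    rw [mul_comm]; exact this

end Setup

end Cfsg.Agent.OddUThree.Basic
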